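import Mathlib

/-!
# (AR9) of helper16's Brauer 1943 arithmetic (S0996/S0999/S4701)

`d = up - 1`, `w = hp - (p-1)`, `d w = (1+np)(p-1)`, `1 ≤ n ≤ (p+1)/2`,
`d² ≤ (1+np)(p-1)p`  ⟹  `u = 1`, `h = n + 1`.
-/

set_option autoImplicit false

namespace Cfsg.Agent.Helper74.B43

/-- (AR9) -/
theorem ar_neg_one (p n d w u h : ℕ) (hp : 3 ≤ p) (hd : d + 1 = u * p)
    (hw : w + (p - 1) = h * p) (hprod : d * w = (1 + n * p) * (p - 1))
    (hn : 2 * n ≤ p + 1) (hn1 : 1 ≤ n)
    (hsq : d * d ≤ (1 + n * p) * ((p - 1) * p)) : u = 1 ∧ h = n + 1 := by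
  obtain ⟨q, rfl⟩ : ∃ q, p = q + 1 := ⟨p - 1, by omega⟩
  rw [Nat.add_sub_cancel] at hw hprod hsq
  have hq : (2 : ℤ) ≤ q := by exact_mod_cast (by omega : 2 ≤ q)
  have hdZ : (d : ℤ) = u * (q + 1) - 1 := by
    have : ((d + 1 : ℕ) : ℤ) = ((u * (q + 1) : ℕ) : ℤ) := by rw [hd]
    push_cast at this
    linarith
  have hwZ : (w : ℤ) = h * (q + 1) - q := by
    have : ((w + q : ℕ) : ℤ) = ((h * (q + 1) : ℕ) : ℤ) := by rw [hw]
    push_cast at this
    linarith
  have hprodZ : (d : ℤ) * w = (1 + n * (q + 1)) * q := by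
    have : ((d * w : ℕ) : ℤ) = (((1 + n * (q + 1)) * q : ℕ) : ℤ) := by rw [hprod]
    push_cast at this
    exact this
  have hsqZ : (d : ℤ) * d ≤ (1 + n * (q + 1)) * (q * (q + 1)) := by
    have : ((d * d : ℕ) : ℤ) ≤ (((1 + n * (q + 1)) * (q * (q + 1)) : ℕ) : ℤ) := by
      exact_mod_cast hsq
    push_cast at this
    exact this
  have hnZ : 2 * (n : ℤ) ≤ q + 2 := by
    have : ((2 * n : ℕ) : ℤ) ≤ ((q + 1 + 1 : ℕ) : ℤ) := by exact_mod_cast hn
    push_cast at this
    linarith
  have hn1Z : (1 : ℤ) ≤ n := by exact_mod_cast hn1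
  have hu0 : (1 : ℤ) ≤ u := by
    have : 1 ≤ u := by
      rcases Nat.eq_zero_or_pos u with h0 | h0
      · rw [h0] at hd; omega
      · exact h0
    exact_mod_cast this
  have hh0 : (1 : ℤ) ≤ h := by
    have : 1 ≤ h := by
      rcases Nat.eq_zero_or_pos h with h0 | h0
      · rw [h0] at hw; omega
      · exact h0
    exact_mod_cast this
  -- the key equation, after cancelling `p = q + 1`
  have key : (u : ℤ) * h * (q + 1) - u * (q + 1) + u - h - n * (q + 1) + n = 0 := by
    have h1 : ((q : ℤ) + 1) *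
        ((u : ℤ) * h * (q + 1) - u * (q + 1) + u - h - n * (q + 1) + n) = 0 := by
      rw [hdZ, hwZ] at hprodZ
      linear_combination hprodZ
    rcases mul_eq_zero.1 h1 with h2 | h2
    · exfalso; linarith
    · exact h2
  -- `h (u - 1) = (p - 1) (u + n - h u)`
  have key2 : (h : ℤ) * (u - 1) = q * (u + n - h * u) := by linear_combination key
  by_cases hu1 : (u : ℤ) = 1
  · have hu1' : u = 1 := by exact_mod_cast hu1
    refine ⟨hu1', ?_⟩
    rw [hu1] at key
    have h3 : (q : ℤ) * (h - (n + 1)) = 0 := by linear_combination key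
    rcases mul_eq_zero.1 h3 with h4 | h4
    · exfalso; linarith
    · have : (h : ℤ) = n + 1 := by linarith
      exact_mod_cast this
  · exfalso
    have hu2 : (2 : ℤ) ≤ u := by
      rcases lt_or_ge (u : ℤ) 2 with h5 | h5
      · exact absurd (by linarith : (u : ℤ) = 1) hu1
      · exact h5
    by_cases hh1 : (h : ℤ) = 1
    · -- `w = 1`, `d = (1 + n p)(p - 1)`, `d ≤ p`
      rw [hh1] at hwZ
      have hw1 : (w : ℤ) = 1 := by linarith
      rw [hw1, mul_one] at hprodZ
      have hdpos : (0 : ℤ) < d := by rw [hdZ]; nlinarith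
      have hdp : (d : ℤ) ≤ q + 1 := by
        have h6 : (d : ℤ) * d ≤ d * (q + 1) := by
          calc (d : ℤ) * d ≤ (1 + n * (q + 1)) * (q * (q + 1)) := hsqZ
            _ = d * (q + 1) := by rw [hprodZ]; ring
        exact le_of_mul_le_mul_left h6 hdpos
      rw [hprodZ] at hdp
      nlinarith
    · have hh2 : (2 : ℤ) ≤ h := by
        rcases lt_or_ge (h : ℤ) 2 with h5 | h5
        · exact absurd (by linarith : (h : ℤ) = 1) hh1
        · exact h5
      set m : ℤ := u + n - h * u with hm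
      have hpos : (0 : ℤ) < h * (u - 1) := by nlinarith
      have hm1 : 1 ≤ m := by
        by_contra hcon
        push_neg at hcon
        have : m ≤ 0 := by linarith
        have : (q : ℤ) * m ≤ 0 := by nlinarith
        linarith
      have h7 : (q : ℤ) ≤ h * (u - 1) := by
        rw [key2]; nlinarith
      have h8 : (n : ℤ) = m - u + h * u := by rw [hm]; ring
      nlinarith
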